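import Groth.Agent.NormFlatHilbLib.Main

/-!
# Numbers of generators of the graded pieces and localisation
-/

set_option autoImplicit false
universe u

open IsLocalRing NormFlatLib NormFlatHilbLib

noncomputable section

namespace NormFlatConnLib

theorem ν_quot_pi {B : Type u} [CommRing B] [IsLocalRing B] (n : ℕ) :
    ν (A := B) (Fin n → B) = n := by
  letI : Field (B ⧸ maximalIdeal B) := Ideal.Quotient.field _
  let g : (Fin n → B) →ₗ[B] (Fin n → B ⧸ maximalIdeal B) := (Submodule.mkQ (maximalIdeal B)).compLeft (Fin n)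
  have hg : Function.Surjective g := fun v =>
    ⟨fun i => (Submodule.mkQ_surjective _ (v i)).choose, funext fun i => (Submodule.mkQ_surjective _ (v i)).choose_spec⟩
  have hbot : maximalIdeal B • (⊤ : Submodule B (Fin n → B ⧸ maximalIdeal B)) = ⊥ := by
    rw [← le_bot_iff, Submodule.smul_le]
    intro a ha x _
    rw [Submodule.mem_bot]
    funext i
    show a • x i = 0
    rw [Algebra.smul_def, Ideal.Quotient.algebraMap_eq, Ideal.Quotient.eq_zero_iff_mem.2 ha, zero_mul]
  rw [← ν_eq_of_surjective_of_ker_le hg fun z hz => ?_]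
  · exact (LinearEquiv.finrank_eq (((Submodule.quotEquivOfEqBot _ hbot).symm).extendScalarsOfSurjective
      Ideal.Quotient.mk_surjective)).symm.trans (Module.finrank_fin_fun _)
  · rw [pi_eq_sum_univ z]
    exact Submodule.sum_mem _ fun i _ => Submodule.smul_mem_smul
      ((Submodule.Quotient.mk_eq_zero _).1 (congrFun (LinearMap.mem_ker.1 hz) i)) trivial

/-- Surjection from a free module with coefficient relations in the maximal ideal. -/
theorem ν_eq_of_gens {B G : Type u} [CommRing B] [IsLocalRing B] [AddCommGroup G] [Module B G] {n : ℕ}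
    (v : Fin n → G) (hspan : Submodule.span B (Set.range v) = ⊤)
    (hrel : ∀ c : Fin n → B, ∑ i, c i • v i = 0 → ∀ i, c i ∈ maximalIdeal B) : ν (A := B) G = n := by
  refine (ν_eq_of_surjective_of_ker_le (g := Fintype.linearCombination B v) ?_ fun c hc => ?_).trans (ν_quot_pi n)
  · rw [← LinearMap.range_eq_top, Fintype.range_linearCombination, hspan]
  · rw [LinearMap.mem_ker, Fintype.linearCombination_apply] at hc
    rw [pi_eq_sum_univ c]
    exact Submodule.sum_mem _ fun i _ => Submodule.smul_mem_smul (hrel c hc i) trivial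

variable {B : Type u} [CommRing B] {T : Type u} [CommRing T] [Algebra B T] (S : Submonoid B) [IsLocalization S T]
  {M M' : Type u} [AddCommGroup M] [Module B M] [AddCommGroup M'] [Module B M'] [Module T M'] [IsScalarTower B T M']
  (f : M →ₗ[B] M') [IsLocalizedModule S f] (K : Ideal B)

theorem localized'_pw : ∀ j : ℕ, (pw K M j).localized' T S f = pw (K.map (algebraMap B T)) M' j
  | 0 => by rw [pw_zero, pw_zero, Submodule.localized'_top]
  | j + 1 => by
    rw [pw_succ, pw_succ, Submodule.localized'_smul, localized'_pw j]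
    congr 1
    rw [Ideal.map, Ideal.span, Submodule.localized'_eq_span, Algebra.coe_linearMap]

include S f in
theorem ν_localization [IsLocalRing B] [IsNoetherianRing B] [Module.Finite B M] [IsLocalRing T]
    (hK : K ≤ maximalIdeal B) (hKT : K.map (algebraMap B T) ≤ maximalIdeal T) (j : ℕ)
    [Module.Flat (B ⧸ K) (Gr K M j)] :
    ν (A := T) (Gr (K.map (algebraMap B T)) M' j) = ν (A := B) (Gr K M j) := by
  classical
  haveI : Nontrivial (B ⧸ K) :=
    Ideal.Quotient.nontrivial_iff.2 (hK.trans_lt (inferInstance : (maximalIdeal B).IsMaximal).lt_top).ne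
  haveI : IsLocalRing (B ⧸ K) := IsLocalRing.of_surjective' _ Ideal.Quotient.mk_surjective
  haveI : Module.Finite (B ⧸ K) (Gr K M j) := Module.Finite.of_restrictScalars_finite B _ _
  haveI : Module.Free (B ⧸ K) (Gr K M j) := Module.free_of_flat_of_isLocalRing
  let b := Module.finBasis (B ⧸ K) (Gr K M j)
  choose z hz using fun i => Submodule.Quotient.mk_surjective _ (b i)
  have hrel : ∀ c : Fin _ → B, (∑ i, c i • (z i).1) ∈ pw K M (j + 1) → ∀ i, c i ∈ K := by
    intro c hc i
    have h1 : ∑ i, Ideal.Quotient.mk K (c i) • b i = 0 := by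
      rw [show (∑ i, Ideal.Quotient.mk K (c i) • b i) =
        Submodule.mkQ (K • (⊤ : Submodule B ↥(pw K M j))) (∑ i, c i • z i) by
          rw [map_sum]
          refine Finset.sum_congr rfl fun i _ => ?_
          rw [map_smul, Submodule.mkQ_apply, hz i]
          exact algebraMap_smul (B ⧸ K) (c i) (b i)]
      refine (mk_eq_zero_iff j _).2 ?_
      rw [Submodule.coe_sum]
      exact hc
    exact Ideal.Quotient.eq_zero_iff_mem.1 ((Fintype.linearIndependent_iff.1 b.linearIndependent) _ h1 i)
  have hgen : ∀ y ∈ pw K M j, ∃ c : Fin _ → B, y - ∑ i, c i • (z i).1 ∈ pw K M (j + 1) := by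
    intro y hy
    choose c hc using fun i => Ideal.Quotient.mk_surjective (b.repr (Submodule.Quotient.mk ⟨y, hy⟩) i)
    refine ⟨c, (mk_eq_zero_iff j ⟨_, sub_mem hy (Submodule.sum_mem _ fun i _ => Submodule.smul_mem _ _ (z i).2)⟩).1 ?_⟩
    have h1 : (⟨y - ∑ i, c i • (z i).1, sub_mem hy (Submodule.sum_mem _ fun i _ => Submodule.smul_mem _ _ (z i).2)⟩ :
        ↥(pw K M j)) = ⟨y, hy⟩ - ∑ i, c i • z i := Subtype.ext (by simp)
    rw [h1, Submodule.Quotient.mk_sub, sub_eq_zero]
    conv_lhs => rw [← b.sum_repr (Submodule.Quotient.mk ⟨y, hy⟩)]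
    rw [← Submodule.mkQ_apply _ (∑ i, c i • z i), map_sum]
    refine Finset.sum_congr rfl fun i _ => ?_
    rw [map_smul, Submodule.mkQ_apply, hz i, ← hc i]
    exact algebraMap_smul (B ⧸ K) (c i) (b i)
  have hB : ν (A := B) (Gr K M j) = Module.finrank (B ⧸ K) (Gr K M j) := by
    refine ν_eq_of_gens (fun i => b i) ?_ fun c hc i => ?_
    · rw [eq_top_iff]
      intro y _
      rw [← b.sum_repr y]
      refine Submodule.sum_mem _ fun i _ => ?_
      obtain ⟨c, hc⟩ := Ideal.Quotient.mk_surjective (b.repr y i)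
      rw [← hc, show (Ideal.Quotient.mk K c) • b i = c • b i from algebraMap_smul (B ⧸ K) c (b i)]
      exact Submodule.smul_mem _ _ (Submodule.subset_span ⟨i, rfl⟩)
    · exact hK (Ideal.Quotient.eq_zero_iff_mem.1 ((Fintype.linearIndependent_iff.1 b.linearIndependent) _
        (Eq.trans (Finset.sum_congr rfl fun i _ => algebraMap_smul (B ⧸ K) (c i) (b i)) hc) i))
  rw [hB]
  let K' := K.map (algebraMap B T)
  have hfz : ∀ {k : ℕ} {x : M}, x ∈ pw K M k → f x ∈ pw K' M' k := fun {k x} hx => by
    rw [← localized'_pw S f K k]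
    exact ⟨x, hx, 1, IsLocalizedModule.mk'_one S f x⟩
  let w : Fin (Module.finrank (B ⧸ K) (Gr K M j)) → Gr K' M' j := fun i =>
    Submodule.Quotient.mk ⟨f (z i).1, hfz (z i).2⟩
  refine ν_eq_of_gens w ?_ fun c hc i => ?_
  · rw [eq_top_iff]
    rintro y -
    obtain ⟨⟨y, hy⟩, rfl⟩ := Submodule.Quotient.mk_surjective _ y
    have hy' : y ∈ (pw K M j).localized' T S f := by rw [localized'_pw S f K j]; exact hy
    obtain ⟨x, hx, s, rfl⟩ := hy'
    obtain ⟨c, hc⟩ := hgen x hx
    have hd := hfz hc
    rw [map_sub, map_sum] at hd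
    simp only [map_smul] at hd
    have hu : algebraMap B T s.1 • IsLocalizedModule.mk' f x s = f x := by
      rw [algebraMap_smul]; exact IsLocalizedModule.mk'_cancel' f x s
    obtain ⟨t, ht⟩ := (IsLocalization.map_units T s).exists_left_inv
    have key : (Submodule.Quotient.mk ⟨IsLocalizedModule.mk' f x s, hy⟩ : Gr K' M' j) =
        ∑ i, (t * algebraMap B T (c i)) • w i := by
      have h2 : Submodule.mkQ (K' • (⊤ : Submodule T ↥(pw K' M' j)))
          (∑ i, (t * algebraMap B T (c i)) • (⟨f (z i).1, hfz (z i).2⟩ : ↥(pw K' M' j))) =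
          ∑ i, (t * algebraMap B T (c i)) • w i := by
        rw [map_sum]; rfl
      rw [← h2, Submodule.mkQ_apply, ← sub_eq_zero, ← Submodule.Quotient.mk_sub, mk_eq_zero_iff]
      have h3 : t • (f x - ∑ i, c i • f (z i).1) =
          IsLocalizedModule.mk' f x s - ∑ i, (t * algebraMap B T (c i)) • f (z i).1 := by
        rw [smul_sub, ← hu, smul_smul, ht, one_smul, Finset.smul_sum]
        refine congrArg _ (Finset.sum_congr rfl fun i _ => ?_)
        rw [← algebraMap_smul T (c i), smul_smul]
      have h4 : t • (f x - ∑ i, c i • f (z i).1) ∈ pw K' M' (j + 1) := Submodule.smul_mem _ t hd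
      rw [h3] at h4
      simpa using h4
    rw [key]
    exact Submodule.sum_mem _ fun i _ => Submodule.smul_mem _ _ (Submodule.subset_span ⟨i, rfl⟩)
  · obtain ⟨s, hs⟩ := IsLocalization.exist_integer_multiples_of_finite S c
    choose d hd using hs
    have h1 : (∑ i, d i • f (z i).1) ∈ pw K' M' (j + 1) := by
      have h2 : Submodule.mkQ (K' • (⊤ : Submodule T ↥(pw K' M' j)))
          (∑ i, c i • (⟨f (z i).1, hfz (z i).2⟩ : ↥(pw K' M' j))) = 0 := by
        rw [map_sum]; exact hc
      rw [Submodule.mkQ_apply, mk_eq_zero_iff, Submodule.coe_sum] at h2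
      have h3 : algebraMap B T s.1 • (∑ i, c i • f (z i).1) = ∑ i, d i • f (z i).1 := by
        rw [Finset.smul_sum]
        refine Finset.sum_congr rfl fun i _ => ?_
        rw [← algebraMap_smul T (d i), hd i, Algebra.smul_def, mul_smul]
      rw [← h3]
      exact Submodule.smul_mem _ _ (by simpa using h2)
    rw [← localized'_pw S f K (j + 1)] at h1
    obtain ⟨x, hx, t, ht⟩ := h1
    have h4 : f ((t : B) • ∑ i, d i • (z i).1) = f x := by
      rw [map_smul, map_sum]
      simp only [map_smul]
      rw [← ht]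
      exact IsLocalizedModule.mk'_cancel' f x t
    obtain ⟨r, hr⟩ := IsLocalizedModule.exists_of_eq (S := S) h4
    rw [Submonoid.smul_def, Submonoid.smul_def, smul_smul, Finset.smul_sum] at hr
    simp only [smul_smul] at hr
    have h5 := hrel (fun i => (r : B) * (t : B) * d i) (by rw [hr]; exact Submodule.smul_mem _ _ hx) i
    have h6 := hKT (Ideal.mem_map_of_mem (algebraMap B T) h5)
    rw [map_mul, map_mul, hd i, Algebra.smul_def, ← mul_assoc] at h6
    exact (Ideal.IsPrime.mem_or_mem inferInstance h6).resolve_left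
      (IsLocalRing.notMem_maximalIdeal.2 ((((IsLocalization.map_units T r).mul (IsLocalization.map_units T t)).mul
        (IsLocalization.map_units T s))))

end NormFlatConnLib
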