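import Groth.Agent.CycDivLib.Pull
import Groth.Agent.RefHullLib.Generic
import Groth.Agent.FlatLib.QStalk
import Groth.Agent.DevissLib.Induction

/-!
# Stalks at generisations
-/

set_option autoImplicit false
universe u

open AlgebraicGeometry CategoryTheory TopologicalSpace

noncomputable section

namespace NormFlatConnLib

variable {X : Scheme.{u}}

/-- The map of stalks to a generization. -/
def specLin (M : X.Modules) {v z : X} (h : v ⤳ z) :
    letI := Module.compHom (M.presheaf.stalk v) (X.presheaf.stalkSpecializes h).hom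
    M.presheaf.stalk z →ₗ[X.presheaf.stalk z] M.presheaf.stalk v :=
  letI := Module.compHom (M.presheaf.stalk v) (X.presheaf.stalkSpecializes h).hom
  { toFun := fun m => (M.presheaf.stalkSpecializes h).hom m
    map_add' := fun a b => map_add _ a b
    map_smul' := fun r m => RefHullLib.stalkSpecializes_smul M h r m }

theorem specLin_germ (M : X.Modules) {v z : X} (h : v ⤳ z) {V : X.Opens} (hz : z ∈ V) (m : Γ(M, V)) :
    (M.presheaf.stalkSpecializes h).hom (M.presheaf.germ V z hz m) = M.presheaf.germ V v (h.mem_open V.isOpen hz) m :=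
  TopCat.Presheaf.germ_stalkSpecializes_apply M.presheaf (U := V) hz h m

/-- The stalk at a generization is the localised stalk. -/
theorem isLocalizedModule_specLin (M : X.Modules) [Coh.IsQCoh M] {v z : X} (h : v ⤳ z) :
    letI := Module.compHom (M.presheaf.stalk v) (X.presheaf.stalkSpecializes h).hom
    IsLocalizedModule (CycDivLib.primeOf h).asIdeal.primeCompl (specLin M h) := by
  letI := (X.presheaf.stalkSpecializes h).hom.toAlgebra
  letI := Module.compHom (M.presheaf.stalk v) (X.presheaf.stalkSpecializes h).hom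
  haveI : IsScalarTower (X.presheaf.stalk z) (X.presheaf.stalk v) (M.presheaf.stalk v) :=
    IsScalarTower.of_algebraMap_smul fun _ _ => rfl
  haveI := CycDivLib.isLocalization_stalkSpecializes h
  obtain ⟨V, hV, hzV, -⟩ := exists_isAffineOpen_mem_and_subset (X := X) (x := z) (U := ⊤) trivial
  have hvV : v ∈ V := h.mem_open V.isOpen hzV
  letI : Algebra Γ(X, V) (X.presheaf.stalk z) := (X.presheaf.germ V z hzV).hom.toAlgebra
  letI : Algebra Γ(X, V) (X.presheaf.stalk v) := (X.presheaf.germ V v hvV).hom.toAlgebra
  haveI : IsLocalization.AtPrime (X.presheaf.stalk z) (hV.primeIdealOf ⟨z, hzV⟩).asIdeal := hV.isLocalization_stalk ⟨z, hzV⟩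
  haveI : IsLocalization.AtPrime (X.presheaf.stalk v) (hV.primeIdealOf ⟨v, hvV⟩).asIdeal := hV.isLocalization_stalk ⟨v, hvV⟩
  letI := Module.compHom (M.presheaf.stalk z) (X.presheaf.germ V z hzV).hom
  letI := Module.compHom (M.presheaf.stalk v) (X.presheaf.germ V v hvV).hom
  haveI : IsScalarTower Γ(X, V) (X.presheaf.stalk z) (M.presheaf.stalk z) := IsScalarTower.of_algebraMap_smul fun _ _ => rfl
  haveI : IsScalarTower Γ(X, V) (X.presheaf.stalk v) (M.presheaf.stalk v) := IsScalarTower.of_algebraMap_smul fun _ _ => rfl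
  haveI : IsScalarTower Γ(X, V) (X.presheaf.stalk z) (X.presheaf.stalk v) := IsScalarTower.of_algebraMap_eq fun r =>
    (TopCat.Presheaf.germ_stalkSpecializes_apply X.presheaf (U := V) hzV h r).symm
  haveI : IsScalarTower Γ(X, V) (X.presheaf.stalk z) (M.presheaf.stalk v) := IsScalarTower.of_algebraMap_smul fun r m => by
    show (X.presheaf.stalkSpecializes h).hom ((X.presheaf.germ V z hzV).hom r) • m = (X.presheaf.germ V v hvV).hom r • m
    erw [TopCat.Presheaf.germ_stalkSpecializes_apply]
  haveI := FlatLib.isLocalizedModule_germLin M hV hzV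
  haveI := FlatLib.isLocalizedModule_germLin M hV hvV
  refine (isLocalizedModule_iff_isBaseChange _ (X.presheaf.stalk v) _).2 ?_
  refine IsBaseChange.of_comp (IsLocalizedModule.isBaseChange (hV.primeIdealOf ⟨z, hzV⟩).asIdeal.primeCompl
    (X.presheaf.stalk z) (FlatLib.germLin M hzV)) ?_
  have he : (specLin M h).restrictScalars Γ(X, V) ∘ₗ FlatLib.germLin M hzV = FlatLib.germLin M hvV :=
    LinearMap.ext fun m => specLin_germ M h hzV m
  rw [he]
  exact IsLocalizedModule.isBaseChange (hV.primeIdealOf ⟨v, hvV⟩).asIdeal.primeCompl (X.presheaf.stalk v)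
    (FlatLib.germLin M hvV)

theorem finite_stalk [IsLocallyNoetherian X] {F : X.Modules} (hF : Coh.IsCoh F) (x : X) :
    Module.Finite (X.presheaf.stalk x) (F.presheaf.stalk x) := by
  haveI : IsNoetherian (X.presheaf.stalk x) (F.presheaf.stalk x) := DevissLib.isNoetherian_stalk hF x
  infer_instance

end NormFlatConnLib
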