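import Groth.Agent.NormFlatConnLib.Loc
import Groth.Agent.NormFlatConnLib.Stalk
import Mathlib.AlgebraicGeometry.Noetherian

/-!
# A single numerator along a connected normally flat centre
-/

set_option autoImplicit false
universe u

open AlgebraicGeometry CategoryTheory IsLocalRing NormFlatLib NormFlatHilbLib TopologicalSpace

noncomputable section

namespace NormFlatConnLib

/-- The points whose value is `c` are open, for a function invariant under specialisation. -/
theorem isOpen_fibre {Y : Scheme.{u}} [IsLocallyNoetherian Y] {α : Type*} (φ : Y → α)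
    (hφ : ∀ ⦃y' y : Y⦄, y' ⤳ y → φ y' = φ y) (c : α) : IsOpen {y : Y | φ y = c} := by
  rw [isOpen_iff_forall_mem_open]
  intro y hy
  obtain ⟨U, hU, hyU, -⟩ := exists_isAffineOpen_mem_and_subset (X := Y) (x := y) (U := ⊤) trivial
  haveI : IsNoetherianRing Γ(Y, U) := IsLocallyNoetherian.component_noetherian ⟨U, hU⟩
  haveI : IsAffine U.toScheme := hU
  haveI : NoetherianSpace ↥U.toScheme := noetherianSpace_of_isAffineOpen U hU
  let ψ : U.toScheme → α := fun z => φ (U.ι z)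
  have hψ : ∀ ⦃z' z : U.toScheme⦄, z' ⤳ z → ψ z' = ψ z := fun z' z h => hφ (h.map U.ι.continuous)
  have hfin := NoetherianSpace.finite_irreducibleComponents (α := ↥U.toScheme)
  have hclosed : IsClosed {z : U.toScheme | ψ z ≠ c} := by
    have h : {z : U.toScheme | ψ z ≠ c} =
        ⋃ Z ∈ {Z ∈ irreducibleComponents ↥U.toScheme | ∃ w ∈ Z, ψ w ≠ c}, Z := by
      ext z
      simp only [Set.mem_iUnion, Set.mem_setOf_eq, exists_prop]
      constructor
      · intro hz
        exact ⟨irreducibleComponent z, ⟨irreducibleComponent_mem_irreducibleComponents z,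
          z, mem_irreducibleComponent, hz⟩, mem_irreducibleComponent⟩
      · rintro ⟨Z, ⟨hZ, w, hw, hwc⟩, hzZ⟩
        obtain ⟨η, hη⟩ := QuasiSober.sober hZ.1 (isClosed_of_mem_irreducibleComponents Z hZ)
        rw [← hψ (hη.specializes hzZ), hψ (hη.specializes hw)]
        exact hwc
    rw [h]
    exact (hfin.subset (fun Z hZ => hZ.1)).isClosed_biUnion fun Z hZ => isClosed_of_mem_irreducibleComponents Z hZ.1
  refine ⟨U.ι '' {z : U.toScheme | ψ z = c}, ?_, ?_, ⟨y, hyU⟩, hy, rfl⟩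
  · rintro _ ⟨z, hz, rfl⟩
    exact hz
  · refine U.ι.isOpenEmbedding.isOpenMap _ ?_
    have := hclosed.isOpen_compl
    convert this using 1
    ext z
    simp

variable {X : Scheme.{u}} (𝓘 : X.IdealSheafData) (F : X.Modules)

/-- The ideal of the centre in a local ring. -/
abbrev kerAt (y : 𝓘.subscheme) : Ideal (X.presheaf.stalk (𝓘.subschemeι y)) :=
  RingHom.ker (𝓘.subschemeι.stalkMap y).hom

/-- The numbers attached to a point of the centre. -/
def num (y : 𝓘.subscheme) (j : ℕ) : ℕ :=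
  a (A := X.presheaf.stalk (𝓘.subschemeι y)) (F.presheaf.stalk (𝓘.subschemeι y)) (kerAt 𝓘 y) j

variable [IsLocallyNoetherian X]

theorem surjective_stalkMap (y : 𝓘.subscheme) : Function.Surjective (𝓘.subschemeι.stalkMap y).hom :=
  Scheme.Hom.stalkMap_surjective _ y

theorem kerAt_ne_top (y : 𝓘.subscheme) : kerAt 𝓘 y ≠ ⊤ :=
  RingHom.ker_ne_top _

theorem map_kerAt {y' y : 𝓘.subscheme} (h : y' ⤳ y) :
    (kerAt 𝓘 y).map (X.presheaf.stalkSpecializes (h.map 𝓘.subschemeι.continuous)).hom = kerAt 𝓘 y' := by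
  let h' := h.map 𝓘.subschemeι.continuous
  let sX := (X.presheaf.stalkSpecializes h').hom
  let sY := (𝓘.subscheme.presheaf.stalkSpecializes h).hom
  have hnat : ∀ t, (𝓘.subschemeι.stalkMap y').hom (sX t) = sY ((𝓘.subschemeι.stalkMap y).hom t) := fun t =>
    Scheme.Hom.stalkSpecializes_stalkMap_apply 𝓘.subschemeι y' y h t
  refine le_antisymm (Ideal.map_le_iff_le_comap.2 fun t ht => ?_) fun t ht => ?_
  · rw [Ideal.mem_comap, RingHom.mem_ker]
    exact (hnat t).trans (by rw [RingHom.mem_ker.1 ht, map_zero])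
  · letI := sX.toAlgebra
    letI := sY.toAlgebra
    haveI := CycDivLib.isLocalization_stalkSpecializes h'
    haveI := CycDivLib.isLocalization_stalkSpecializes h
    obtain ⟨b, s, rfl⟩ := IsLocalization.exists_mk'_eq (CycDivLib.primeOf h').asIdeal.primeCompl t
    rw [RingHom.mem_ker] at ht
    have hb : sY ((𝓘.subschemeι.stalkMap y).hom b) = 0 := by
      rw [← hnat, show sX b = IsLocalization.mk' _ b s * sX s.1 from (IsLocalization.mk'_spec _ b s).symm, map_mul, ht,
        zero_mul]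
    obtain ⟨c, hc⟩ := (IsLocalization.map_eq_zero_iff (CycDivLib.primeOf h).asIdeal.primeCompl _ _).1 hb
    obtain ⟨c', hc'⟩ := surjective_stalkMap 𝓘 y c.1
    have hu : IsUnit (sX c') := by
      refine isUnit_of_map_unit (𝓘.subschemeι.stalkMap y').hom _ ?_
      rw [hnat, hc']
      exact IsLocalization.map_units _ c
    rw [← (Ideal.unit_mul_mem_iff_mem _ (hu.mul (IsLocalization.map_units _ s) :
      IsUnit (sX c' * algebraMap _ _ s.1))), mul_assoc, mul_comm (algebraMap _ _ s.1), IsLocalization.mk'_spec]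
    show sX c' * sX b ∈ _
    rw [← map_mul]
    refine Ideal.mem_map_of_mem _ ?_
    rw [RingHom.mem_ker, map_mul, hc', hc]

theorem num_eq_of_specializes (hF : Coh.IsCoh F)
    (hnf : ∀ y : ↥𝓘.subscheme, EGA4.IsNormallyFlat (kerAt 𝓘 y) ↑(F.presheaf.stalk (𝓘.subschemeι y)))
    {y' y : 𝓘.subscheme} (h : y' ⤳ y) (j : ℕ) : num 𝓘 F y' j = num 𝓘 F y j := by
  haveI := hF.1
  let h' := h.map 𝓘.subschemeι.continuous
  haveI : Module.Finite (X.presheaf.stalk (𝓘.subschemeι y)) (F.presheaf.stalk (𝓘.subschemeι y)) :=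
    finite_stalk hF _
  letI := (X.presheaf.stalkSpecializes h').hom.toAlgebra
  letI := Module.compHom (F.presheaf.stalk (𝓘.subschemeι y')) (X.presheaf.stalkSpecializes h').hom
  haveI : IsScalarTower (X.presheaf.stalk (𝓘.subschemeι y)) (X.presheaf.stalk (𝓘.subschemeι y'))
      (F.presheaf.stalk (𝓘.subschemeι y')) := IsScalarTower.of_algebraMap_smul fun _ _ => rfl
  haveI := CycDivLib.isLocalization_stalkSpecializes h'
  haveI := isLocalizedModule_specLin F h'
  haveI : Module.Flat (X.presheaf.stalk (𝓘.subschemeι y) ⧸ kerAt 𝓘 y)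
    (Gr (kerAt 𝓘 y) (F.presheaf.stalk (𝓘.subschemeι y)) j) := hnf y j
  have hk := map_kerAt 𝓘 h
  have := ν_localization (T := X.presheaf.stalk (𝓘.subschemeι y')) (CycDivLib.primeOf h').asIdeal.primeCompl
    (specLin F h') (kerAt 𝓘 y) (IsLocalRing.le_maximalIdeal (kerAt_ne_top 𝓘 y))
    (hk.trans_le (IsLocalRing.le_maximalIdeal (kerAt_ne_top 𝓘 y'))) j
  rw [RingHom.algebraMap_toAlgebra, hk] at this
  exact this

theorem main [ConnectedSpace ↥𝓘.subscheme]
    (hreg : ∀ y : ↥𝓘.subscheme, IsRegularLocalRing ↑(𝓘.subscheme.presheaf.stalk y)) (hF : Coh.IsCoh F)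
    (hnf : ∀ y : ↥𝓘.subscheme, EGA4.IsNormallyFlat (kerAt 𝓘 y) ↑(F.presheaf.stalk (𝓘.subschemeι y))) :
    ∃ R : ℕ → ℕ, ∀ (y : ↥𝓘.subscheme) (n : ℕ), ringKrullDim ↑(𝓘.subscheme.presheaf.stalk y) = n →
      ∀ h : ℕ, Module.finrank (↑(X.presheaf.stalk (𝓘.subschemeι y)) ⧸ maximalIdeal ↑(X.presheaf.stalk (𝓘.subschemeι y)))
        (Gr (maximalIdeal ↑(X.presheaf.stalk (𝓘.subschemeι y))) ↑(F.presheaf.stalk (𝓘.subschemeι y)) h) =
        ∑ r ∈ Finset.range (h + 1), Nat.choose (r + n - 1) r * R (h - r) := by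
  haveI := hF.1
  haveI : IsLocallyNoetherian 𝓘.subscheme := LocallyOfFiniteType.isLocallyNoetherian 𝓘.subschemeι
  obtain ⟨y₀⟩ := (inferInstance : Nonempty ↥𝓘.subscheme)
  have hconst : ∀ y, num 𝓘 F y = num 𝓘 F y₀ := by
    intro y
    have hinv : ∀ ⦃z' z : 𝓘.subscheme⦄, z' ⤳ z → num 𝓘 F z' = num 𝓘 F z := fun z' z h =>
      funext (num_eq_of_specializes 𝓘 F hF hnf h)
    have hclosed : IsClosed {z : 𝓘.subscheme | num 𝓘 F z = num 𝓘 F y₀} := by
      rw [← isOpen_compl_iff, isOpen_iff_forall_mem_open]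
      intro z hz
      exact ⟨{w | num 𝓘 F w = num 𝓘 F z}, fun w hw hw' => hz (hw.symm.trans hw'),
        isOpen_fibre (num 𝓘 F) hinv _, rfl⟩
    have := IsClopen.eq_univ ⟨hclosed, isOpen_fibre (num 𝓘 F) hinv (num 𝓘 F y₀)⟩ ⟨y₀, rfl⟩
    exact (Set.eq_univ_iff_forall.1 this y :)
  refine ⟨num 𝓘 F y₀, fun y n hn h => ?_⟩
  haveI := hreg y
  let e := RingHom.quotientKerEquivOfSurjective (surjective_stalkMap 𝓘 y)
  haveI : IsRegularLocalRing (X.presheaf.stalk (𝓘.subschemeι y) ⧸ kerAt 𝓘 y) :=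
    IsRegularLocalRing.of_ringEquiv e.symm
  haveI : Module.Finite (X.presheaf.stalk (𝓘.subschemeι y)) (F.presheaf.stalk (𝓘.subschemeι y)) :=
    finite_stalk hF _
  rw [(normallyFlat_iff (kerAt 𝓘 y) n ((ringKrullDim_eq_of_ringEquiv e).trans hn)).1 (hnf y) h]
  exact Finset.sum_congr rfl fun r _ => congrArg _ (congrFun (hconst y) (h - r))

end NormFlatConnLib
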